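import Cfsg.Agent.Kkl.A
import Cfsg.Agent.Evn.A

set_option autoImplicit false
set_option linter.unusedSectionVars false

namespace CF.Kkl

open Cfsg MonoidAlgebra Subgroup CF.Block CF.BlockB CF.BlockK Finset
open scoped ComplexConjugate IsMulCommutative

universe u

theorem sum_rg {Q : Type*} [Group Q] [Fintype Q] {F : Q → ℂ} {c : ℂ} (h : ∀ u ≠ 1, F u = c) :
    ∑ u, rg Q u * F u = Nat.card Q * (Nat.card Q - 1) * c := by
  classical
  rw [← add_sum_erase _ _ (mem_univ (1 : Q)), sum_congr rfl fun u hu =>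
    show (rg Q u : ℂ) * F u = Nat.card Q * c by
      rw [h u (mem_erase.1 hu).1, rg, if_neg (mem_erase.1 hu).1, Int.cast_natCast],
    sum_const, card_erase_of_mem (mem_univ _), card_univ, ← Nat.card_eq_fintype_card, nsmul_eq_mul,
    Nat.cast_sub Nat.card_pos]
  simp only [rg, if_true]
  push_cast
  ring

theorem sq_mod (t : ℤ) : t ^ 2 % 8 = 1 ∨ t ^ 2 % 4 = 0 := by
  rcases Int.even_or_odd' t with ⟨m, rfl | rfl⟩
  · right
    have : (2 * m) ^ 2 = 4 * (m * m) := by ring
    omega
  · left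
    obtain ⟨r, hr⟩ := Int.even_mul_succ_self m
    have : (2 * m + 1) ^ 2 = 8 * r + 1 := by linear_combination 4 * hr
    omega

variable {M : Ideal AlgInt} {G : Type u} [Group G] [Fintype G] {B : Set (IrrCharacter G)}
  {P : Subgroup G} {e : (k M)[G]} (hM : IsPModular 2 M) (hB : IsPBlock M B)
  (he : MaxPair 2 ⊤ (eb M B) P e)
include hM hB he

theorem fm_four (hab : P ≤ centralizer (P : Set G)) (h4 : Nat.card P = 4) :
    Fm (Nat.card (FE P e)) B := by
  classical
  have := Fintype.ofFinite P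
  have := Fintype.ofFinite B
  have := isComm_of hab
  have := charP_k hM
  have hP := he.bpair.pair.isP
  have hE := not_dvd_FE hM he hab
  have hi := (FE P e).subtype_injective
  have h3 := G4 hP hE hi h4.le
  have hF : FS 2 B P e := fS_of_free' hM hB he hab fun σ hσ x hx h => by
    have h2 := card_Sf_of (C := (· < 2)) (n := 2) Nat.prime_two hP hE hi (by omega) hx
      fun ψ h2 h3 h4 h5 => card_lt_of_prime Nat.prime_two h3 h5 h2 h4
    have h5 : Sf (FE P e).subtype x = ⊥ := eq_bot_of_card_le _ (by omega)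
    have h6 : (⟨σ, hσ⟩ : FE P e) ∈ Sf (FE P e).subtype x := mem_Sf.2 h
    rw [h5, mem_bot] at h6
    exact congrArg Subtype.val h6
  have hr := rank_eq_of_fS hF (Nat.le_of_dvd (by norm_num) h3)
  have hc := hF.card_eq
  have : Nontrivial P := Finite.one_lt_card_iff_nontrivial.1 (by omega)
  obtain ⟨R, hs, h2, hp, hl, ht, -, hq⟩ := sing hM hB he hab (exists_ne 1)
  rw [sum_rg (c := 1 / Nat.card (FE P e)) fun u hu => by
    rw [hF.rank_sbl u.2 (by simpa using hu), hF.fcard_eq u.2 (by simpa using hu), Nat.cast_one]]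
    at ht
  intro φ hφ n hn
  obtain ⟨θ, h1, h5, rfl⟩ := mem_lat_iff.1 hφ
  choose a ha using fun i : B => Char.inner_gen_eq_int h1 (Char.gen_of_irr i.1.2)
  obtain rfl : θ = th a := eq_of_inSpan h5 (inSpan_th _) fun j => by rw [inner_th_irr, ha]
  have hd := card_defectGroup hM hB ((isDefectGroup_iff hM hB _).2 he.isDefGrp)
  rw [← Nat.cast_pow, ← hd, inner_reg_reg, hq, Int.cast_inj] at hn
  rw [hr, Nat.card_eq_fintype_card (α := B)] at hc
  simp only [h4, Nat.cast_ofNat] at h2 hl ht hn hc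
  rcases (Nat.dvd_prime Nat.prime_three).1 h3 with h | h
  · rw [h] at ht hc ⊢
    have h6 : ∑ i, R i i = 12 := by
      refine Int.cast_injective (α := ℂ) (ht.trans ?_)
      norm_num
    obtain ⟨t, h7, -⟩ := sq_of_four (R := fun i j => (if i = j then 4 else 0) - R i j)
      (fun i j => by rw [hs i j]; simp only [eq_comm]) (fun i j => by
        simp only [sub_mul, mul_sub, sum_sub_distrib, h2, ite_mul, mul_ite, zero_mul, mul_zero,
          sum_ite_eq, sum_ite_eq', mem_univ, if_true]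
        split_ifs <;> ring) hc (fun i => by have := hl i; simp only [if_true]; omega)
      (by simp [sum_sub_distrib, h6, hc]) a
    have h8 : n = t ^ 2 := by
      rw [← hn, ← h7]
      simp only [qf, sub_mul, mul_sub, sum_sub_distrib, ite_mul, zero_mul, sum_ite_eq, mem_univ,
        if_true, mul_sum]
      refine congrArg (· - _) (sum_congr rfl fun i _ => by ring)
    exact h8 ▸ sq_mod t
  · rw [h] at ht hc ⊢
    have h6 : ∑ i, R i i = 4 := by
      refine Int.cast_injective (α := ℂ) (ht.trans ?_)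
      norm_num
    obtain ⟨t, h7, h8⟩ := sq_of_four hs h2 hc hp h6 a
    have := sq_mod t
    rw [h7] at hn
    push_cast
    omega

theorem card_eq_eight [Fintype B] (h8 : Nat.card P = 8) (hel : ∀ x ∈ P, x * x = 1)
    (h7 : 7 ∣ Nat.card (FE P e)) (hev : ∀ a : B → ℤ, PV 2 (th a) → Even (∑ i, a i ^ 2)) :
    Nat.card B = 8 := by
  classical
  have := Fintype.ofFinite P
  have := charP_k hM
  have hab : P ≤ centralizer (P : Set G) := fun x hx y hy => by
    have h1 := hel _ (P.mul_mem hy hx)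
    calc y * x = y * x * (x * y * (x * y)) := by rw [hel _ (P.mul_mem hx hy), mul_one]
      _ = y * (x * x) * y * (x * y) := by group
      _ = x * y := by rw [hel x hx, mul_one, hel y hy, one_mul]
  have := isComm_of hab
  have hP := he.bpair.pair.isP
  have hE := not_dvd_FE hM he hab
  have hi := (FE P e).subtype_injective
  obtain ⟨s, hs7⟩ := h7
  have h1 : ∀ u : P, u ≠ 1 → fcard 2 P e u = 7 ∧ Nat.card (St (FE P e) u) = s ∧ s ∣ 3 :=
    fun u hu => by
    have h2 := card_Sf_of (C := (· ∣ 3)) (n := 4) Nat.prime_two hP hE hi (by omega) hu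
      fun ψ h2 h3 h4 h5 => G4 h3 h5 h2 h4
    have h3 := index_Sf_lt (φ := (FE P e).subtype) hu
    have h4 := (Sf (FE P e).subtype u).card_mul_index
    have h5 := (Sf (FE P e).subtype u).index_ne_zero_of_finite
    rw [fcard_eq_index hM he hab, card_St_eq]
    rcases (Nat.dvd_prime Nat.prime_three).1 h2 with h | h <;> rw [h] at h4 ⊢
    · obtain rfl : s = 1 := by omega
      omega
    · obtain rfl : s = 3 := by omega
      omega
  have : Nontrivial P := Finite.one_lt_card_iff_nontrivial.1 (by omega)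
  obtain ⟨w, hw⟩ := exists_ne (1 : P)
  obtain ⟨hw7, hws, hs3⟩ := h1 w hw
  have hcj : ∀ u : P, u ≠ 1 → FConj 2 P e w u := fun u hu => by
    rw [fcard_eq_index hM he hab, index_Sf] at hw7
    have h2 : (Set.range fun a => (FE P e).subtype a w) = {1}ᶜ :=
      Set.eq_of_subset_of_ncard_le (by
        rintro _ ⟨a, rfl⟩
        simpa using hw) (by rw [Set.ncard_compl, h8, Set.ncard_singleton, hw7])
    obtain ⟨a, ha⟩ := h2.ge hu
    exact (fConj_iff' hM he hab).2 ⟨a, a.2, ha⟩
  obtain ⟨A, hs, h2, hp, hl, ht, hq, hr⟩ := sing hM hB he hab ⟨w, hw⟩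
  rw [sum_rg (c := s / 7) fun u hu => by
    rw [rank_sbl_of_le_three hM hB he hab ((h1 u hu).2.1 ▸ Nat.le_of_dvd (by norm_num) hs3),
      (h1 u hu).1, (h1 u hu).2.1, Nat.cast_ofNat]] at ht
  have hc := le_Cen_of_comm hab w.2
  have hd := card_defectGroup hM hB ((isDefectGroup_iff hM hB _).2 he.isDefGrp)
  rw [← blockDefect_sbl_of_le hM hB he w.2 hc] at hd
  have hq' : ∀ a, (qf A a : ℂ) = ((2 : ℕ) : ℂ) ^ blockDefect 2 (sbl 2 P e w) *
      cm 2 (sbl 2 P e w) w (th a) (th a) := fun a => by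
    have hcl := (inSpan_th (B := B) a).classFun
    simp only [hq, div_mul_eq_mul_div, mul_div_assoc]
    rw [sum_rg (c := cm 2 (sbl 2 P e w) w (th a) (th a) / 7) fun u hu => by
      rw [← (hcj u hu).cm_eq hM he.bpair.pair hcl hcl, (h1 u hu).1, Nat.cast_ofNat],
      ← Nat.cast_pow, ← hd, h8]
    push_cast
    ring
  have := Fintype.ofFinite (Cen (w : G))
  obtain ⟨K, _, _, Q, ρ, b, f, hD, hF⟩ := exists_dm_fm hM hB he w hc
  have hw2 : orderOf w = 2 := orderOf_eq_prime (Subtype.ext (by simpa [sq] using hel w w.2)) hw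
  have hQ := hD.card_mul
  rw [hw2, h8] at hQ
  have hF' := fm_four hM hD.blk hD.max (hD.comm hab) (by omega)
  rw [hD.card_FE_eq hM.1 hP hE, hws] at hF'
  have hb := (sbl_spec hM he.bpair.pair w.2).1
  simp only [h8, Nat.cast_ofNat] at h2 hl ht hr
  rw [Nat.card_eq_fintype_card]
  refine card_of_eight (s := s) ?_ hs (fun i => h2 i i) hp hl ?_ (fun a => ?_) ?_ fun a ha => ?_
  · rcases (Nat.dvd_prime Nat.prime_three).1 hs3 with h | h <;> simp [h]
  · refine Int.cast_injective (α := ℂ) (ht.trans ?_)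
    push_cast
    ring
  · have hg : IsGeneralizedCharacter G (th a) :=
      Char.gen_sum _ fun i _ => Char.gen_intCast_smul (Char.gen_of_irr i.1.2) _
    refine hF s hF' this _ (regProj_mem_lat (θ := sec (Cen (w : G)) w (th a)) ?_) _ ?_
    · refine Char.gen_of_inner_int (sec_classFun (inSpan_th a).classFun le_rfl) fun χ hχ => ?_
      exact Char.gen_eq_int_of_sq_eq_one (gen_inner_sec (commute_zpowers_of_le (x := (w : G)) le_rfl)
        hg (Char.gen_of_irr hχ)) (g := ⟨w, mem_zpowers _⟩)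
        (Subtype.ext (by simpa [sq] using hel w w.2))
    · rw [hq', cm_eq_both hM (nrm_eSet_le_one hM hb)]
  · obtain ⟨χ, hχ, h0⟩ := exists_height_zero (p := 2) (block_nonempty hM hB)
    refine ⟨⟨χ, hχ⟩, ?_⟩
    have h3 := (v_cm_eq_one_iff hM (exists_orderOf_of_mem hM.1 hP w.2) le_rfl
      (isInducedBlock_sbl hM hB he.bpair w.2) hχ hχ).2 ⟨h0, h0⟩
    have h4 := hq' fun k => if k = ⟨χ, hχ⟩ then 1 else 0
    have h5 : th (fun k : B => if k = ⟨χ, hχ⟩ then 1 else 0) = (χ : G → ℂ) := by simp [th]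
    rw [h5, qf_one] at h4
    rw [← h4, v_intCast_eq_one_iff hM] at h3
    exact Int.not_even_iff_odd.1 fun h => h3 (even_iff_two_dvd.1 h)
  · refine hev a ?_
    have h3 := inner_sub_reg_self (p := 2) (th a)
    have h4 := hr a
    rw [ha] at h4
    rw [inner_th_th, show classInner (pRegularPart 2 (th a)) (th a) = (∑ i, a i * a i : ℤ) by
      simp only [sq] at h4
      push_cast at h4 ⊢
      linear_combination h4 / 8, sub_self, Char.inner_self_eq_zero, sub_eq_zero] at h3
    exact h3 ▸ pv_reg _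

theorem core (h8 : Nat.card P = 8) (hel : ∀ x ∈ P, x * x = 1) (h7 : 7 ∣ Nat.card (FE P e)) :
    Nat.card B = 8 := by
  have := Fintype.ofFinite B
  have := charP_k hM
  refine card_eq_eight hM hB he h8 hel h7 fun a ha =>
    Evn.even_norm hM hB ((isDefectGroup_iff hM hB _).2 he.isDefGrp) (fun h => ?_) hel
      (Char.gen_sum _ fun i _ => Char.gen_intCast_smul (Char.gen_of_irr i.1.2) _) ha
      (inSpan_th a) ?_
  · rw [h, card_bot] at h8
    omega
  · simp only [sq]
    exact inner_th_th a a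

omit hM hB he in
theorem core' {G : Type u} [Group G] [Finite G] {B : Set (IrrCharacter G)} {P : Subgroup G}
    {e : (k M)[G]} (hM : IsPModular 2 M) (hB : IsPBlock M B) (he : MaxPair 2 ⊤ (eb M B) P e)
    (h8 : Nat.card P = 8) (hel : ∀ x ∈ P, x * x = 1) (h7 : 7 ∣ Nat.card (FE P e)) :
    Nat.card B = 8 :=
  have := Fintype.ofFinite G
  core hM hB he h8 hel h7

end CF.Kkl
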