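import Mathlib

set_option autoImplicit false

namespace CF.Kkl
open Finset

variable {ι : Type*} [Fintype ι] [DecidableEq ι]

/-- The quadratic form of a matrix. -/
def qf (A : ι → ι → ℤ) (a : ι → ℤ) : ℤ := ∑ i, a i * ∑ j, A i j * a j

theorem qf_two {A : ι → ι → ℤ} (hs : ∀ i j, A i j = A j i) {i j : ι} (h : i ≠ j) :
    qf A (fun k => (if k = i then 1 else 0) + if k = j then 1 else 0) =
      A i i + 2 * A i j + A j j := by
  simp only [qf, mul_add, add_mul, sum_add_distrib, mul_ite, ite_mul, mul_one, one_mul, mul_zero,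
    zero_mul, sum_ite_eq', mem_univ, if_true, hs j i]
  ring

theorem qf_one (A : ι → ι → ℤ) (i : ι) : qf A (fun k => if k = i then 1 else 0) = A i i := by
  simp [qf]

theorem sq_of_four {R : ι → ι → ℤ} (hs : ∀ i j, R i j = R j i)
    (h2 : ∀ i j, ∑ k, R i k * R k j = 4 * R i j) (hc : Fintype.card ι = 4) (hp : ∀ i, 0 < R i i)
    (ht : ∑ i, R i i = 4) (a : ι → ℤ) : ∃ t, qf R a = t ^ 2 ∧ (∑ i, a i ^ 2) % 2 = t ^ 2 % 2 := by
  have h1 : ∀ i, R i i = 1 := fun i => by
    have h3 : ∑ j, (R j j - 1) = 0 := by simp [sum_sub_distrib, ht, hc]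
    have := (sum_eq_zero_iff_of_nonneg fun j _ => by have := hp j; omega).1 h3 i (mem_univ _)
    omega
  have h3 : ∀ i j, R i j ^ 2 ≤ 1 := fun i j => by
    have h4 := sum_mul_sq_le_sq_mul_sq univ (fun k => R i k) (fun k => R k j)
    have h5 : ∑ k, R i k ^ 2 = 4 := by
      rw [← mul_one 4, ← h1 i, ← h2]; exact sum_congr rfl fun k _ => by rw [sq, hs k i]
    have h6 : ∑ k, R k j ^ 2 = 4 := by
      rw [← mul_one 4, ← h1 j, ← h2]; exact sum_congr rfl fun k _ => by rw [sq, hs j k]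
    rw [h2, h5, h6] at h4
    nlinarith
  have h4 : ∀ i j, R i j ^ 2 = 1 := fun i j => by
    have h5 : ∑ k, (1 - R i k ^ 2) = 0 := by
      have h5 : ∑ k, R i k ^ 2 = 4 := by
        rw [← mul_one 4, ← h1 i, ← h2]; exact sum_congr rfl fun k _ => by rw [sq, hs k i]
      simp [sum_sub_distrib, h5, hc]
    have := (sum_eq_zero_iff_of_nonneg fun k _ => by have := h3 i k; omega).1 h5 j (mem_univ _)
    omega
  obtain ⟨o⟩ : Nonempty ι := Fintype.card_pos_iff.1 (by omega)
  have h5 : ∀ i j, R i j = R i o * R o j := fun i j => by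
    have h6 : ∑ k, (R i k * R k j - R i j) ^ 2 = 0 := by
      have : ∀ k, (R i k * R k j - R i j) ^ 2 = 2 - 2 * R i j * (R i k * R k j) := fun k => by
        linear_combination (R k j ^ 2) * h4 i k + h4 k j + h4 i j
      simp only [this, sum_sub_distrib, ← mul_sum, h2, sum_const, card_univ, hc, nsmul_eq_mul]
      push_cast
      linear_combination (-8) * h4 i j
    have := (sum_eq_zero_iff_of_nonneg fun k _ => sq_nonneg _).1 h6 o (mem_univ _)
    have := pow_eq_zero_iff (two_ne_zero) |>.1 this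
    omega
  refine ⟨∑ j, R o j * a j, ?_, ?_⟩
  · rw [qf, sq, sum_mul]
    refine sum_congr rfl fun i _ => ?_
    rw [sum_congr rfl fun j _ => by rw [h5 i j, mul_assoc], ← mul_sum, hs i o]
    ring
  · have h6 : (2 : ℤ) ∣ ∑ i, a i ^ 2 - ∑ j, R o j * a j := by
      rw [← sum_sub_distrib]
      refine dvd_sum fun j _ => ?_
      rcases sq_eq_one_iff.1 (h4 o j) with h | h <;> rw [h]
      · simpa [sq, mul_sub] using (Int.even_mul_pred_self (a j)).two_dvd
      · simpa [sq, mul_add] using (Int.even_mul_succ_self (a j)).two_dvd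
    generalize ∑ j, R o j * a j = t at *
    have h7 := (Int.even_mul_pred_self t).two_dvd
    rw [mul_sub, ← sq] at h7
    omega

theorem card_of_eight {A : ι → ι → ℤ} {s : ℤ} (h13 : s = 1 ∨ s = 3) (hs : ∀ i j, A i j = A j i)
    (h2 : ∀ i, ∑ k, A i k * A k i = 8 * A i i) (hp : ∀ i, 0 < A i i) (hl : ∀ i, A i i < 8)
    (ht : ∑ i, A i i = 8 * s) (hq : ∀ a, qf A a % 8 = s ∨ qf A a % 4 = 0)
    (ho : ∃ i, Odd (A i i)) (hev : ∀ a, qf A a = 0 → Even (∑ i, a i ^ 2)) :
    Fintype.card ι = 8 := by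
  have h1 : ∀ i, A i i = s ∨ A i i = 4 := fun i => by
    have := hq fun k => if k = i then 1 else 0
    rw [qf_one] at this
    have := hp i
    have := hl i
    omega
  set H := univ.filter fun i => A i i = 4 with hH
  have hc := card_filter_add_card_filter_not (s := univ) fun i => A i i = 4
  rw [← hH, card_univ] at hc
  set L := univ.filter fun i => ¬ A i i = 4 with hL
  have hsum : ∀ f : ι → ℤ, ∑ i, f i = ∑ i ∈ H, f i + ∑ i ∈ L, f i := fun f =>
    (sum_filter_add_sum_filter_not _ _ _).symm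
  have mH : ∀ i ∈ H, A i i = 4 := fun i h => (mem_filter.1 h).2
  have mL : ∀ i ∈ L, A i i = s := fun i h => (h1 i).resolve_right (mem_filter.1 h).2
  have h3 : 4 * (H.card : ℤ) + s * L.card = 8 * s := by
    rw [← ht, hsum, sum_congr rfl mH, sum_congr rfl mL]
    simp [mul_comm]
  by_cases h0 : H = ∅
  · rw [h0] at h3 hc
    rcases h13 with rfl | rfl <;> simp at h3 hc <;> omega
  exfalso
  obtain ⟨x, hx⟩ := nonempty_iff_ne_empty.2 h0
  obtain ⟨c, hc0⟩ := ho
  have cL : c ∈ L := mem_filter.2 ⟨mem_univ _, fun h => by rw [h] at hc0; exact absurd hc0 (by decide)⟩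
  have h4 : ∀ i ∈ H, ∀ j ∈ L, A i j % 4 = 2 := fun i hi j hj => by
    have := hq fun k => (if k = i then 1 else 0) + if k = j then 1 else 0
    rw [qf_two hs (show i ≠ j from fun e => (mem_filter.1 hj).2 (by subst e; exact mH i hi)), mH i hi, mL j hj] at this
    omega
  have h5 : ∀ i ∈ H, ∀ j ∈ L, 4 ≤ A i j ^ 2 := fun i hi j hj => by
    have := h4 i hi j hj
    rcases (by omega : 2 ≤ A i j ∨ A i j ≤ -2) with h | h <;> nlinarith
  have h6 : ∀ i ∈ H, ∑ j ∈ H.erase i, A i j ^ 2 + ∑ j ∈ L, (A i j ^ 2 - 4) + 4 * L.card = 16 :=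
    fun i hi => by
      have := h2 i
      rw [sum_congr rfl fun k _ => by rw [hs k i, ← sq], hsum, ← add_sum_erase _ _ hi,
        mH i hi] at this
      rw [sum_sub_distrib]
      simp only [sum_const, nsmul_eq_mul]
      linarith
  have n1 : ∀ i, 0 ≤ ∑ j ∈ H.erase i, A i j ^ 2 := fun i => sum_nonneg fun j _ => sq_nonneg _
  have n2 : ∀ i ∈ H, 0 ≤ ∑ j ∈ L, (A i j ^ 2 - 4) := fun i hi =>
    sum_nonneg fun j hj => by have := h5 i hi j hj; omega
  have h7 : (L.card : ℤ) = 4 ∧ (H.card : ℤ) = s := by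
    have := h6 x hx
    have := n1 x
    have := n2 x hx
    have := card_pos.2 ⟨c, cL⟩
    rcases h13 with rfl | rfl <;> omega
  have h8 : ∀ i ∈ H, ∀ j ∈ H.erase i, A i j = 0 := fun i hi j hj => by
    have := h6 i hi
    have := n1 i
    have := n2 i hi
    exact pow_eq_zero_iff two_ne_zero |>.1 ((sum_eq_zero_iff_of_nonneg fun j _ => sq_nonneg _).1
      (show ∑ j ∈ H.erase i, A i j ^ 2 = 0 by omega) j hj)
  have h9 : ∀ i ∈ H, A i c = 2 * (A i c / 2) ∧ (A i c / 2) ^ 2 = 1 := fun i hi => by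
    have := h6 i hi
    have := n1 i
    have := n2 i hi
    have h10 := (sum_eq_zero_iff_of_nonneg fun j hj => by have := h5 i hi j hj; omega).1
      (show ∑ j ∈ L, (A i j ^ 2 - 4) = 0 by omega) c cL
    have h11 := h4 i hi c cL
    have h12 : A i c = 2 * (A i c / 2) := by omega
    exact ⟨h12, by rw [h12] at h10; linarith⟩
  let w : ι → ℤ := fun j => if A j j = 4 then -(A j c / 2) else if j = c then 2 else 0
  have wH : ∀ j ∈ H, w j = -(A j c / 2) := fun j hj => if_pos (mH j hj)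
  have wL : ∀ j ∈ L, w j = if j = c then 2 else 0 := fun j hj => if_neg (mem_filter.1 hj).2
  have sL : ∀ f : ι → ℤ, ∑ j ∈ L, f j * w j = f c * 2 := fun f => by
    rw [sum_congr rfl fun j hj => by rw [wL j hj]]
    simp [cL]
  have k1 : ∑ j, A c j * w j = 0 := by
    rw [hsum, sL, mL c cL, sum_congr rfl (g := fun _ => -2) fun j hj => by
      rw [wH j hj, hs c j]; linear_combination (-(A j c / 2)) * (h9 j hj).1 - 2 * (h9 j hj).2]
    simp [h7.2]
  have k2 : ∀ i ∈ H, ∑ j, A i j * w j = 0 := fun i hi => by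
    rw [hsum, sL, ← add_sum_erase _ _ hi, sum_eq_zero fun j hj => by rw [h8 i hi j hj, zero_mul],
      mH i hi, wH i hi]
    linarith [(h9 i hi).1]
  have k3 := hev w (by
    rw [qf, hsum, sum_eq_zero fun i hi => by rw [k2 i hi, mul_zero],
      sum_congr rfl fun i _ => mul_comm _ _, sL, k1]
    rfl)
  rw [hsum, sum_congr rfl (g := fun _ => 1) fun j hj => by rw [wH j hj, neg_sq, (h9 j hj).2],
    sum_congr rfl fun j _ => sq (w j), sL, wL c cL, if_pos rfl] at k3
  simp only [sum_const, nsmul_eq_mul, mul_one, h7.2] at k3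
  rcases h13 with rfl | rfl <;> exact absurd k3 (by decide)

end CF.Kkl
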