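import Cfsg.Agent.BlockK.K9
import Cfsg.Agent.Kkl.M

set_option autoImplicit false
set_option linter.unusedSectionVars false

namespace CF.Kkl

open Cfsg MonoidAlgebra Subgroup CF.Block CF.BlockB CF.BlockK Finset
open scoped ComplexConjugate IsMulCommutative

universe u

section

variable {M : Ideal AlgInt} {G : Type u} [Group G] [Fintype G] {B : Set (IrrCharacter G)}
  {P : Subgroup G} {e : (k M)[G]}

/-- The order of the group times the characteristic function of the nonidentity elements. -/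
noncomputable def rg (Q : Type*) [Group Q] : Q → ℤ := fun u =>
  @ite _ (u = 1) (Classical.propDecidable _) 0 (Nat.card Q)

theorem gen_rg (Q : Type*) [Group Q] [Finite Q] :
    IsGeneralizedCharacter Q fun u => (rg Q u : ℂ) := by
  have := Fintype.ofFinite Q
  convert Char.gen_sub (Char.gen_const_int (Nat.card Q))
    (Char.gen_indFun (⊥ : Subgroup Q) Char.gen_const_one) using 1
  ext u
  by_cases hu : u = 1
  · have := Char.indFun_apply_of_normal (⊥ : Subgroup Q) (fun _ => 1) ⟨u, mem_bot.2 hu⟩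
    simp only [sum_const, card_univ, nsmul_eq_mul, mul_one, ← Nat.card_eq_fintype_card,
      ← Char.index_eq_div_complex, index_bot] at this
    subst hu
    simp only [rg, if_true, Int.cast_zero, Pi.sub_apply, this, Int.cast_natCast, sub_self]
  · simp [rg, hu, Char.indFun_eq_zero_of_normal (⊥ : Subgroup Q) _ (mt mem_bot.1 hu)]

variable {p : ℕ} (hM : IsPModular p M) (hB : IsPBlock M B) (he : MaxPair p ⊤ (eb M B) P e)
  (hab : P ≤ centralizer (P : Set G))
include hM he hab

theorem gd_rg : Gd p P e (rg P) :=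
  ⟨fStable_extendByZero fun u w huw => by
    obtain ⟨σ, -, rfl⟩ := (fConj_iff' hM he hab).1 huw
    rw [rg, rg, propext (show σ u = 1 ↔ u = 1 from σ.map_eq_one_iff)], gen_rg P⟩

include hB

theorem sing [Fintype P] [Fintype B] (hP : ∃ w : P, w ≠ 1) : ∃ A : B → B → ℤ,
    (∀ i j, A i j = A j i) ∧ (∀ i j, ∑ k, A i k * A k j = Nat.card P * A i j) ∧
    (∀ i, 0 < A i i) ∧ (∀ i, A i i < Nat.card P) ∧
    (((∑ i, A i i : ℤ) : ℂ) =
      ∑ u : P, rg P u * ((blockRank p (sbl p P e u) : ℂ) / fcard p P e u)) ∧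
    (∀ a, (qf A a : ℂ) =
      ∑ u : P, rg P u / fcard p P e u * cm p (sbl p P e u) u (th a) (th a)) ∧
    ∀ a, (Nat.card P : ℂ) * classInner (pRegularPart p (th a)) (th a) =
      (Nat.card P * ∑ i, a i ^ 2 - qf A a : ℤ) := by
  classical
  have g := gd_rg hM he hab
  obtain ⟨A, hA⟩ := g.exists_mat (B := B) hM he
  have hcl := fun i : B => Char.irr_isClassFunction i.1.2
  have hs := g.mat_symm hM he hA
  have h1 : ∀ a, (qf A a : ℂ) =
      ∑ u : P, rg P u / fcard p P e u * cm p (sbl p P e u) u (th a) (th a) := fun a => by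
    have hc := (inSpan_th (B := B) a).classFun
    rw [← g.inner hM he hc hc, g.symm hM he hc hc, inner_th_left, qf]
    push_cast
    refine sum_congr rfl fun i _ => congrArg _ ?_
    rw [← g.symm hM he (hcl i) hc, ← Char.inner_conj_symm, inner_th_left, map_sum]
    refine sum_congr rfl fun j _ => ?_
    rw [← g.symm hM he (hcl j) (hcl i), hA, hs j i]
    simp [mul_comm]
  have h2 : ∀ a, (Nat.card P : ℂ) * classInner (pRegularPart p (th a)) (th a) =
      (Nat.card P * ∑ i, a i ^ 2 - qf A a : ℤ) := fun a => by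
    have h3 := inner_sub_reg hM hB he (inSpan_th (B := B) a) (inSpan_th a).classFun
    have h4 : (Nat.card P : ℂ) * ∑ u ∈ univ.erase (1 : P),
        cm p (sbl p P e u) u (th a) (th a) / fcard p P e u = qf A a := by
      rw [h1, mul_sum, ← add_sum_erase _ _ (mem_univ (1 : P))]
      refine Eq.trans (sum_congr rfl fun u hu => ?_) (right_eq_add.2 (by simp [rg]))
      simp only [rg, if_neg (mem_erase.1 hu).1]
      push_cast
      ring
    rw [inner_th_th] at h3
    simp only [sq]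
    push_cast at h3 ⊢
    linear_combination -(Nat.card P : ℂ) * h3 - h4
  have ht : ∀ i : B, th (fun k => if k = i then 1 else 0) = (i.1 : G → ℂ) := fun i => by
    simp [th]
  obtain ⟨w, hw⟩ := hP
  refine ⟨A, hs, g.mat_mul hM hB he hA g hA g hA fun u => ?_, fun i => ?_, fun i => ?_,
    g.mat_trace hM hB he hA, h1, h2⟩
  · simp only [rg]
    split_ifs <;> simp
  · refine cm_pos hM hB he hab (rg P) (fun u => ?_) (w := w) ?_ i ?_
    · simp only [rg]
      split_ifs <;> simp
    · simp [rg, hw]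
    · rw [← qf_one A i, h1, ht]
  · have h3 := h2 fun k => if k = i then 1 else 0
    have h4 := inner_reg_self_ne_zero hM.1 (θ := (i.1 : G → ℂ)) (Char.irr_one_ne_zero i.1.2)
    have h5 := Char.inner_self_re_nonneg (pRegularPart p (i.1 : G → ℂ))
    rw [inner_reg_reg] at h5
    rw [ht, qf_one] at h3
    have h6 : ∑ k : B, (if k = i then (1 : ℤ) else 0) ^ 2 = 1 := by simp
    rw [h6, mul_one] at h3
    have h0 : (Nat.card P : ℂ) ≠ 0 := Nat.cast_ne_zero.2 Nat.card_pos.ne'
    have h7 : (0 : ℝ) ≤ ((Nat.card P : ℤ) - A i i : ℤ) := by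
      have := congrArg Complex.re h3
      rw [Complex.intCast_re, ← Complex.ofReal_natCast, Complex.re_ofReal_mul] at this
      rw [← this]
      positivity
    have h8 : (Nat.card P : ℤ) - A i i ≠ 0 := fun h => by
      rw [h, Int.cast_zero] at h3
      exact mul_ne_zero h0 h4 h3
    have h9 : 0 ≤ (Nat.card P : ℤ) - A i i := by exact_mod_cast h7
    omega

end

section

variable {K : Type*} [Group K] [Fintype K] {M : Ideal AlgInt}

/-- The values of the Cartan form are congruent to `s` modulo eight or divisible by four. -/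
def Fm (s : ℤ) (b : Set (IrrCharacter K)) : Prop := ∀ φ ∈ Lat 2 b,
  ∀ n : ℤ, ((2 : ℕ) : ℂ) ^ blockDefect 2 b * classInner φ φ = n → n % 8 = s ∨ n % 4 = 0

theorem Fm.of_dom {H : Type*} [Group H] [Fintype H] {π : H →* K} {s : ℤ} (h : PQuot 2 π)
    (hM : IsPModular 2 M) {b : Set (IrrCharacter H)} (hb : IsPBlock M b)
    (h1 : Fm s (dom π b)) : Fm s b := fun φ hφ n hn => by
  obtain ⟨φ', h2, rfl⟩ := (h.mem_lat_iff hM hb).1 hφ
  rw [h.form_rinf hM hb (lat_pv h2)] at hn
  exact h1 _ h2 _ hn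

end

theorem exists_dm_fm {M : Ideal AlgInt} {G : Type u} [Group G] [Finite G]
    {B : Set (IrrCharacter G)} {P : Subgroup G} {e : (k M)[G]}
    (hM : IsPModular 2 M) (hB : IsPBlock M B) (he : MaxPair 2 ⊤ (eb M B) P e)
    (u : P) (hc : P ≤ Cen (u : G)) : ∃ (K : Type u) (_ : Group K) (_ : Fintype K) (Q : Subgroup K)
      (ρ : P →* Q) (b : Set (IrrCharacter K)) (f : (k M)[K]), Dm 2 B P e u ρ b f ∧
        ∀ s, Fm s b → ∀ _ : Fintype (Cen (u : G)), Fm s (sbl 2 P e u) := by
  have := Fact.mk hM.1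
  have := charP_k hM
  have hp := he.bpair.pair
  obtain ⟨hb, hle⟩ := sbl_spec hM hp u.2
  have h1 := he.maxPair_Cz hle (by rwa [centralizer_zpowers'])
  have h2 := stab_Nz_Cz ⊤ (zpowers (u : G)) P e
  rw [Cz_top_zpowers] at h1 h2
  rw [centralizer_zpowers'] at h2
  obtain ⟨e', rfl⟩ := exists_gmap_subtype h1.bpair.pair.mem_sub
  have hi := (Cen (u : G)).subtype_injective
  have h3 : MaxPair 2 ⊤ (eb M (sbl 2 P (gmap (Cen (u : G)).subtype e') u)) (P.subgroupOf (Cen u)) e' :=
    (maxPair_gmap hi).1 (by rwa [map_top_subtype, map_subgroupOf_subtype hc])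
  have h4 : ∀ x : Cen (u : G), x ∈ stab (Nz ⊤ (P.subgroupOf (Cen u))) e' ↔
      (x : G) ∈ stab (Nz ⊤ P) (gmap (Cen (u : G)).subtype e') := fun x => by
    rw [← mem_stab_gmap hi, map_top_subtype, map_subgroupOf_subtype hc, h2]
    exact and_iff_left x.2
  set u' : Cen (u : G) := ⟨u, mem_Cen.2 rfl⟩
  have hz : zpowers u' ≤ center _ := zpowers_le_of_mem
    (mem_center_iff.2 fun y => Subtype.ext (mem_Cen.1 y.2))
  have : (zpowers u').Normal := Clifford.normal_of_le_center hz
  have hpz : IsPGroup 2 (zpowers u') := by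
    rw [← isPGroup_map_iff hi, MonoidHom.map_zpowers]
    exact hp.isP.to_le (zpowers_le_of_mem u.2)
  have h := pQuot_mk hpz (regCent_of_le_center hz)
  set π := QuotientGroup.mk' (zpowers u')
  have hker : π.ker = zpowers u' := QuotientGroup.ker_mk' _
  obtain ⟨f, h5, h6, h7⟩ := quot_pair (regSupp hM) h.surj h.ker (hker.le.trans hz) h3.bpair
    (hker.le.trans (zpowers_le_of_mem u.2))
  have hb' := h.isPBlock_dom hM hb
  have hD := h.isDefectGroup_dom hM hb ((isDefectGroup_iff hM hb _).2 h3.isDefGrp)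
  rw [← h.eb_dom hM hb] at h5
  have := Fintype.ofFinite (Cen (u : G))
  have := Fintype.ofFinite (Cen (u : G) ⧸ zpowers u')
  have hx := exists_orderOf_of_mem hM.1 hp.isP u.2
  have hind := isInducedBlock_sbl hM hB he.bpair u.2
  have hd := blockDefect_sbl_of_le hM hB he u.2 hc
  have hP := card_defectGroup hM hB ((isDefectGroup_iff hM hB _).2 he.isDefGrp)
  let ρ : P →* (P.subgroupOf (Cen u)).map π := (π.comp (inclusion hc)).codRestrict _
    fun x => mem_map_of_mem π x.2
  have hρ : ∀ x, (ρ x : Cen (u : G) ⧸ zpowers u') = π (inclusion hc x) := fun _ => rfl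
  refine ⟨_, inferInstance, inferInstance, _, ρ, _, f, ⟨hb',
    h5.maxPair ((isDefectGroup_iff hM hb' _).1 hD), ?_, ?_, h.blockRank_dom hM hb, ?_, ?_,
    fun h8 => hP ▸ (h8.of_dom h hM hb).card_le hM hx hind hd,
    fun h8 => hP ▸ (h8.of_dom h hM hb).card_le hM hx hind hd⟩,
    fun s h8 _ => h8.of_dom h hM hb⟩
  · rintro ⟨_, x, hx, rfl⟩
    exact ⟨⟨x, hx⟩, rfl⟩
  · ext x
    rw [MonoidHom.mem_ker, Subtype.ext_iff, hρ, OneMemClass.coe_one, ← MonoidHom.mem_ker, hker,
      ← mem_map_iff_mem hi, ← mem_map_iff_mem P.subtype_injective, MonoidHom.map_zpowers,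
      MonoidHom.map_zpowers]
    rfl
  · rintro τ ⟨y, hy, hτ⟩
    obtain ⟨x, hx, c, hc', rfl⟩ := h7 y hy
    obtain ⟨σ, h8, h9⟩ := exists_autE stab_le_normalizer ((h4 x).1 hx)
    refine ⟨σ, h8, Subtype.ext ?_, fun z => Subtype.ext ?_⟩
    · rw [h9, mem_Cen.1 x.2, mul_inv_cancel_right]
    · have h10 : (ρ (σ z) : Cen (u : G) ⧸ zpowers u') = π x * ρ z * (π x)⁻¹ := by
        rw [hρ, hρ, ← map_inv, ← map_mul, ← map_mul]
        exact congrArg π (Subtype.ext (h9 z))
      rw [hτ, ← conj_eq_of_mem_centralizer hc' (ρ (σ z)).2, h10]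
      group
  · rintro σ ⟨t, ht, hσ⟩ hu
    have h8 : t ∈ Cen (u : G) := mem_Cen.2 (by rw [← mul_inv_eq_iff_eq_mul, ← hσ, hu])
    obtain ⟨τ, h9, h10⟩ := exists_autE stab_le_normalizer (h6 ⟨t, h8⟩ ((h4 _).2 ht))
    refine ⟨τ, h9, fun z => Subtype.ext ?_⟩
    rw [h10, hρ, hρ, ← map_inv, ← map_mul, ← map_mul]
    exact congrArg π (Subtype.ext (hσ z).symm)

end CF.Kkl
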